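import Mathlib.AlgebraicTopology.SimplicialObject.Coskeletal
import Mathlib.CategoryTheory.Limits.Shapes.FiniteLimits
import Mathlib.CategoryTheory.Limits.Constructions.Over.Connected
import Mathlib.CategoryTheory.IsConnected
import Mathlib.Data.Fintype.Pi
import Mathlib.Data.Finite.Sigma
import Mathlib.CategoryTheory.Limits.Constructions.Over.Basic
import Mathlib.Data.Fintype.Sigma

/-!
# Pointwise Kan extensions along the inclusions of truncated simplex categories
-/

universe v u

open CategoryTheory CategoryTheory.Limits Opposite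

namespace Groth.Agent.TruncKan

instance finite_hom (a b : SimplexCategory) : Finite (a ⟶ b) :=
  Finite.of_injective (fun f => (f.toOrderHom : Fin (a.len + 1) → Fin (b.len + 1)))
    (fun f g h => SimplexCategory.Hom.ext _ _ (OrderHom.ext _ _ h))

instance finite_truncated (m : ℕ) : Finite (SimplexCategory.Truncated m) :=
  Finite.of_surjective (fun k : Fin (m + 1) => (⟨SimplexCategory.mk k.val, Nat.le_of_lt_succ k.2⟩ : SimplexCategory.Truncated m))
    (fun a => ⟨⟨a.obj.len, Nat.lt_succ_of_le a.2⟩, rfl⟩)

instance finite_truncated_op (m : ℕ) : Finite (SimplexCategory.Truncated m)ᵒᵖ :=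
  Finite.of_equiv _ equivToOpposite

instance finite_structuredArrow (m : ℕ) (Y : SimplexCategoryᵒᵖ) :
    Finite (StructuredArrow Y (SimplexCategory.Truncated.inclusion m).op) :=
  haveI : ∀ a : (SimplexCategory.Truncated m)ᵒᵖ, Finite (Y ⟶ (SimplexCategory.Truncated.inclusion m).op.obj a) :=
    fun a => Finite.of_injective (fun f => f.unop) Quiver.Hom.unop_inj
  Finite.of_surjective (fun p : Σ a : (SimplexCategory.Truncated m)ᵒᵖ,
      (Y ⟶ (SimplexCategory.Truncated.inclusion m).op.obj a) => StructuredArrow.mk p.2)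
    (fun A => ⟨⟨A.right, A.hom⟩, (StructuredArrow.eq_mk A).symm⟩)

instance finite_costructuredArrow (m : ℕ) (Y : SimplexCategoryᵒᵖ) :
    Finite (CostructuredArrow (SimplexCategory.Truncated.inclusion m).op Y) :=
  haveI : ∀ a : (SimplexCategory.Truncated m)ᵒᵖ, Finite ((SimplexCategory.Truncated.inclusion m).op.obj a ⟶ Y) :=
    fun a => Finite.of_injective (fun f => f.unop) Quiver.Hom.unop_inj
  Finite.of_surjective (fun p : Σ a : (SimplexCategory.Truncated m)ᵒᵖ,
      ((SimplexCategory.Truncated.inclusion m).op.obj a ⟶ Y) => CostructuredArrow.mk p.2)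
    (fun A => ⟨⟨A.left, A.hom⟩, (CostructuredArrow.eq_mk A).symm⟩)

noncomputable instance finCategory_structuredArrow (m : ℕ) (Y : SimplexCategoryᵒᵖ) :
    FinCategory (StructuredArrow Y (SimplexCategory.Truncated.inclusion m).op) :=
  haveI : ∀ a b : StructuredArrow Y (SimplexCategory.Truncated.inclusion m).op, Finite (a ⟶ b) := fun a b =>
    Finite.of_injective (fun f => (f.right.unop.hom.toOrderHom : Fin (b.right.unop.obj.len + 1) → Fin (a.right.unop.obj.len + 1))) fun f g h =>
      StructuredArrow.hom_ext _ _ (Quiver.Hom.unop_inj (SimplexCategory.Truncated.Hom.ext _ _ (OrderHom.ext _ _ h)))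
  { fintypeObj := Fintype.ofFinite _, fintypeHom := fun _ _ => Fintype.ofFinite _ }

noncomputable instance finCategory_costructuredArrow (m : ℕ) (Y : SimplexCategoryᵒᵖ) :
    FinCategory (CostructuredArrow (SimplexCategory.Truncated.inclusion m).op Y) :=
  haveI : ∀ a b : CostructuredArrow (SimplexCategory.Truncated.inclusion m).op Y, Finite (a ⟶ b) := fun a b =>
    Finite.of_injective (fun f => (f.left.unop.hom.toOrderHom : Fin (b.left.unop.obj.len + 1) → Fin (a.left.unop.obj.len + 1))) fun f g h =>
      CostructuredArrow.hom_ext _ _ (Quiver.Hom.unop_inj (SimplexCategory.Truncated.Hom.ext _ _ (OrderHom.ext _ _ h)))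
  { fintypeObj := Fintype.ofFinite _, fintypeHom := fun _ _ => Fintype.ofFinite _ }

variable {C : Type u} [Category.{v} C]

theorem hasPointwiseRight [HasFiniteLimits C] (m : ℕ) (U : (SimplexCategory.Truncated m)ᵒᵖ ⥤ C) :
    (SimplexCategory.Truncated.inclusion m).op.HasPointwiseRightKanExtension U := fun _ => inferInstance

theorem hasPointwiseLeft [HasFiniteColimits C] (m : ℕ) (U : (SimplexCategory.Truncated m)ᵒᵖ ⥤ C) :
    (SimplexCategory.Truncated.inclusion m).op.HasPointwiseLeftKanExtension U := fun _ => inferInstance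

/-- The limit cones of a coskeletal object. -/
noncomputable def isLimitConeAt [HasFiniteLimits C] (U : SimplicialObject C) (n : ℕ) [U.IsCoskeletal n]
    (Y : SimplexCategoryᵒᵖ) :
    IsLimit ((SimplicialObject.Truncated.rightExtensionInclusion U n).coneAt Y) :=
  haveI := hasPointwiseRight n ((SimplexCategory.Truncated.inclusion n).op ⋙ U)
  Functor.isPointwiseRightKanExtensionOfIsRightKanExtension U
    (𝟙 ((SimplexCategory.Truncated.inclusion n).op ⋙ U)) Y

lemma isCoskeletal_of_isLimit (U : SimplicialObject C) (n : ℕ)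
    (h : ∀ Y, Nonempty (IsLimit ((SimplicialObject.Truncated.rightExtensionInclusion U n).coneAt Y))) :
    U.IsCoskeletal n :=
  ⟨Functor.RightExtension.IsPointwiseRightKanExtension.isRightKanExtension
    (E := SimplicialObject.Truncated.rightExtensionInclusion U n) (fun Y => (h Y).some)⟩

theorem isCoskeletal_of_le [HasFiniteLimits C] (U : SimplicialObject C) {n m : ℕ} (h : n ≤ m)
    [U.IsCoskeletal n] : U.IsCoskeletal m := by
  refine isCoskeletal_of_isLimit U m fun Y => ?_
  let up : StructuredArrow Y (SimplexCategory.Truncated.inclusion n).op →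
      StructuredArrow Y (SimplexCategory.Truncated.inclusion m).op := fun A =>
    StructuredArrow.mk (Y := op (⟨A.right.unop.obj, A.right.unop.2.trans h⟩ : SimplexCategory.Truncated m)) A.hom
  have hcone : ∀ (s : Cone (StructuredArrow.proj Y (SimplexCategory.Truncated.inclusion m).op ⋙
      (SimplexCategory.Truncated.inclusion m).op ⋙ U)),
      ∀ {A B : StructuredArrow Y (SimplexCategory.Truncated.inclusion n).op} (f : A ⟶ B),
        s.π.app (up A) ≫ U.map f.right.unop.hom.op = s.π.app (up B) := fun s {A B} f =>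
    s.w (StructuredArrow.homMk (SimplexCategory.Truncated.Hom.tr f.right.unop.hom (B.right.unop.2.trans h)
      (A.right.unop.2.trans h)).op (StructuredArrow.w f) : up A ⟶ up B)
  let res : Cone (StructuredArrow.proj Y (SimplexCategory.Truncated.inclusion m).op ⋙
      (SimplexCategory.Truncated.inclusion m).op ⋙ U) →
      Cone (StructuredArrow.proj Y (SimplexCategory.Truncated.inclusion n).op ⋙
      (SimplexCategory.Truncated.inclusion n).op ⋙ U) := fun s =>
    { pt := s.pt
      π := { app := fun A => s.π.app (up A)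
             naturality := fun A B f => (Category.id_comp _).trans (hcone s f).symm } }
  have fac : ∀ s A, (isLimitConeAt U n Y).lift (res s) ≫ U.map A.hom = s.π.app (up A) := fun s A => by
    have := (isLimitConeAt U n Y).fac (res s) A
    simp only [Functor.RightExtension.coneAt] at this
    exact (congrArg (fun k => _ ≫ k) (Category.comp_id _)).symm.trans this
  refine ⟨{ lift := fun s => (isLimitConeAt U n Y).lift (res s), fac := fun s A => ?_, uniq := fun s g hg => ?_ }⟩
  · show (isLimitConeAt U n Y).lift (res s) ≫ (U.map A.hom ≫ 𝟙 _) = _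
    rw [Category.comp_id]
    refine (isLimitConeAt U n ((SimplexCategory.Truncated.inclusion m).op.obj A.right)).hom_ext fun B => ?_
    show ((isLimitConeAt U n Y).lift (res s) ≫ U.map A.hom) ≫ (U.map B.hom ≫ 𝟙 _) = s.π.app A ≫ (U.map B.hom ≫ 𝟙 _)
    rw [Category.assoc]
    refine Eq.trans (congrArg ((isLimitConeAt U n Y).lift (res s) ≫ ·)
      ((congrArg (U.map A.hom ≫ ·) (Category.comp_id _)).trans (U.map_comp A.hom B.hom).symm)) ?_
    refine Eq.trans ?_ (congrArg (s.π.app A ≫ ·) (Category.comp_id _)).symm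
    refine (fac s (StructuredArrow.mk (Y := B.right) (A.hom ≫ B.hom))).trans ?_
    exact (s.w (StructuredArrow.homMk (SimplexCategory.Truncated.Hom.tr B.hom.unop
      (B.right.unop.2.trans h) A.right.unop.2).op rfl : A ⟶ up (StructuredArrow.mk (A.hom ≫ B.hom)))).symm
  · refine (isLimitConeAt U n Y).uniq (res s) g fun A => ?_
    exact hg (up A)

/-- For `k ≥ 1` the category of simplices of dimension `≤ k` of a standard simplex is connected. -/
theorem isConnected_structuredArrow (k : ℕ) (hk : 1 ≤ k) (Y : SimplexCategoryᵒᵖ) :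
    IsConnected (StructuredArrow Y (SimplexCategory.Truncated.inclusion k).op) := by
  let vtx : Fin (Y.unop.len + 1) → StructuredArrow Y (SimplexCategory.Truncated.inclusion k).op := fun i =>
    StructuredArrow.mk (Y := op (⟨SimplexCategory.mk 0, Nat.zero_le k⟩ : SimplexCategory.Truncated k))
      (SimplexCategory.const (SimplexCategory.mk 0) Y.unop i).op
  have hv : ∀ (A : StructuredArrow Y (SimplexCategory.Truncated.inclusion k).op) (j : Fin (A.right.unop.obj.len + 1)),
      Nonempty (A ⟶ vtx (A.hom.unop.toOrderHom j)) := fun A j =>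
    ⟨StructuredArrow.homMk (SimplexCategory.Truncated.Hom.tr
      (SimplexCategory.const (SimplexCategory.mk 0) A.right.unop.obj j) (Nat.zero_le k) A.right.unop.2).op
      (Quiver.Hom.unop_inj (SimplexCategory.Hom.ext _ _ (OrderHom.ext _ _ (funext fun _ => rfl))))⟩
  have hedge : ∀ i : Fin (Y.unop.len + 1), Zigzag (vtx 0) (vtx i) := by
    intro i
    let E : StructuredArrow Y (SimplexCategory.Truncated.inclusion k).op :=
      StructuredArrow.mk (Y := op (⟨SimplexCategory.mk 1, hk⟩ : SimplexCategory.Truncated k))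
        (SimplexCategory.mkOfLe 0 i (Fin.zero_le i) : SimplexCategory.mk 1 ⟶ SimplexCategory.mk Y.unop.len).op
    obtain ⟨f⟩ := hv E (0 : Fin 2)
    obtain ⟨g⟩ := hv E (1 : Fin 2)
    exact Relation.ReflTransGen.head (Or.inr ⟨f⟩) (Relation.ReflTransGen.single (Or.inl ⟨g⟩))
  haveI : Nonempty (StructuredArrow Y (SimplexCategory.Truncated.inclusion k).op) := ⟨vtx 0⟩
  refine zigzag_isConnected fun A B => ?_
  obtain ⟨a⟩ := hv A 0
  obtain ⟨b⟩ := hv B 0
  exact (((Relation.ReflTransGen.single (Or.inl ⟨a⟩) : Zigzag A _).trans (hedge _).symm).trans (hedge _)).trans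
    (Relation.ReflTransGen.single (Or.inr ⟨b⟩))

theorem isCoskeletal_forget [HasFiniteLimits C] (X : C) (k : ℕ) (hk : 1 ≤ k) (V : SimplicialObject (Over X))
    [V.IsCoskeletal k] : SimplicialObject.IsCoskeletal (V ⋙ Over.forget X) k := by
  haveI : HasFiniteLimits (Over X) := inferInstance
  refine isCoskeletal_of_isLimit _ k fun Y => ?_
  haveI := isConnected_structuredArrow k hk Y
  refine ⟨(isLimitOfPreserves (Over.forget X) (isLimitConeAt V k Y)).ofIsoLimit (Cone.ext (Iso.refl _) fun A => ?_)⟩
  show ((V.map A.hom ≫ 𝟙 _)).left = 𝟙 _ ≫ ((V.map A.hom).left ≫ 𝟙 _)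
  simp

end Groth.Agent.TruncKan
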